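import Cfsg.Agent.H0.TC
set_option maxRecDepth 100000
namespace H0.TCHZ1
open H0
noncomputable def r0 : TC.WTr := (.node (.node (.node (.node (.node (.node (.leaf [0] 0 0 false) (.leaf [1, 3, 7, 4, 2] 37 1 false)) (.leaf [4] 3 0 false)) (.node (.node (.leaf [2] 1 0 false) (.leaf [5, 0, 6] 34 2 false)) (.leaf [5, 5] 17 0 false))) (.node (.node (.node (.leaf [0] 0 0 false) (.leaf [8] 8 0 false)) (.leaf [2, 0, 1, 0, 2] 29 5 false)) (.node (.node (.leaf [1] 1 1 false) (.leaf [5, 2, 8, 1] 35 3 false)) (.leaf [4, 8, 6, 4] 19 3 true)))) (.node (.node (.node (.node (.leaf [2, 4, 2, 0, 1] 29 3 false) (.leaf [9, 3, 8, 5] 26 0 true)) (.leaf [3] 3 1 false)) (.node (.node (.leaf [8, 1, 9, 5] 35 0 false) (.leaf [2, 8, 1, 6] 35 1 true)) (.leaf [6] 5 0 false))) (.node (.node (.node (.leaf [1, 9, 0, 2, 6] 39 0 false) (.leaf [4, 9, 7, 6] 26 1 false)) (.leaf [3] 3 1 false)) (.node (.leaf [1, 0, 2, 0,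 1] 29 0 true) (.leaf [5] 5 1 false))))) (.node (.node (.node (.node (.node (.leaf [1, 0, 2, 4, 2] 29 1 false) (.leaf [6, 3, 6, 3] 18 0 true)) (.leaf [4] 3 0 false)) (.node (.node (.leaf [1] 1 1 false) (.leaf [1, 7, 5, 4, 2] 36 1 false)) (.leaf [6] 5 0 false))) (.node (.node (.node (.leaf [0, 2, 0, 1, 3] 29 1 true) (.leaf [9, 4, 7, 5] 25 0 true)) (.leaf [3] 3 1 false)) (.node (.leaf [1] 1 1 false) (.leaf [9, 2, 8, 1] 35 0 true)))) (.node (.node (.node (.node (.leaf [0] 0 0 false) (.leaf [7] 7 0 false)) (.leaf [5, 7, 4, 5] 18 2 false)) (.node (.node (.leaf [1] 1 1 false) (.leaf [8, 6, 7, 3] 25 3 false)) (.leaf [5] 5 1 false))) (.node (.node (.node (.leaf [2] 1 0 false) (.leaf [1, 6, 9, 2] 35 3 true)) (.leaf [4, 2, 9, 1, 7] 36 4 false)) (.node (.leaf [5, 8, 3, 5] 19 2 false) (.leaf [5] 5 1 false))))))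
noncomputable def r1 : TC.WTr := (.node (.node (.node (.node (.node (.node (.leaf [6, 8, 5] 34 0 false) (.leaf [4, 2, 7, 1, 3] 37 4 false)) (.leaf [4] 3 0 false)) (.node (.node (.leaf [2] 1 0 false) (.leaf [9] 9 0 false)) (.leaf [1, 0, 1, 1, 1, 0, 1, 1] 30 0 true))) (.node (.node (.node (.leaf [2] 1 0 false) (.leaf [1, 9, 5, 2] 35 1 false)) (.leaf [3] 3 1 false)) (.node (.node (.leaf [1] 1 1 false) (.leaf [9] 9 0 false)) (.leaf [9, 4, 9, 8, 3] 27 1 false)))) (.node (.node (.node (.node (.leaf [0] 0 0 false) (.leaf [5, 4, 2, 9, 1] 36 3 false)) (.leaf [1, 7, 4, 1, 7] 38 2 false)) (.node (.node (.leaf [9, 1, 7, 5, 4] 36 0 false) (.leaf [6, 9, 6] 24 0 true)) (.leaf [6] 5 0 false))) (.node (.node (.node (.leaf [9, 0, 2, 6, 1] 39 1 false) (.leaf [3, 5, 3, 5] 19 4 false)) (.leaf [6] 5 0 false)) (.node (.leaf [7, 2, 3, 7, 2] 38 0 true) (.leaf [5] 5 1 false))))) (.node (.node (.node (.node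 (.node (.leaf [1, 1, 1, 0, 1, 1, 5, 1] 30 2 true) (.leaf [6, 8, 4, 9] 26 4 false)) (.leaf [4] 3 0 false)) (.node (.node (.leaf [5, 1, 0, 9, 2] 39 5 true) (.leaf [0, 2, 6, 1, 1] 39 2 false)) (.leaf [6] 5 0 false))) (.node (.node (.node (.leaf [6, 9, 2, 8] 35 4 true) (.leaf [6, 7, 3, 9] 25 4 false)) (.leaf [3] 3 1 false)) (.node (.leaf [4] 3 0 false) (.leaf [5] 5 1 false)))) (.node (.node (.node (.node (.leaf [0] 0 0 false) (.leaf [7] 7 0 false)) (.leaf [4, 4, 4] 16 0 true)) (.node (.node (.leaf [1] 1 1 false) (.leaf [5, 9, 5] 24 1 false)) (.leaf [6, 6] 17 0 true))) (.node (.node (.node (.leaf [2] 1 0 false) (.leaf [9, 8, 9] 14 0 false)) (.leaf [1, 0, 9, 2, 2] 39 0 true)) (.node (.leaf [6, 7, 2, 9, 1] 36 0 true) (.leaf [7] 7 0 false))))))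
noncomputable def tS : Tr := (.leaf (nat_lit 0x3feeda7d06833392ccc44f76fffdb7075135e26ba5d0815eecff909f4580810880867b9706bff28bdd1e511635d78cb0844ffeec7503e482f161361307917fc56905a0c41e9728945766aff934b65b0790082736137141ff502495c734f3381e8f1ba4ffe9f488bc82ec07ba9982d247fc5a8636a491ed06803c6cacff8f0fea441210d2481ea101fff0f0783c421395c8226000f7fe403989448231108400200fffc0000000000000000401e0e))
noncomputable def tJ : Tr := (.leaf (nat_lit 0x202860440d44207064414c4360675b3232011000102421b27004c0110000503001c0033160423c02000030454200c0014056200c0010202301000c0100000303102c1011100000a2200400000a00009999999001))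
noncomputable def tQ : Tr := (.leaf (nat_lit 0x0))
noncomputable def tR : TC.WTr := (.node r0 r1)
def hl : List ℕ := [3, 4, 4, 3, 5, 6, 6, 5, 7, 8, 9]
def B : List (List ℕ) := [[0, 0], [1, 2], [2, 1], [3, 4], [4, 3], [5, 6], [6, 5], [7, 7], [8, 8], [9, 9], [7, 8, 7, 8], [7, 8, 7, 8], [7, 9, 7, 9], [7, 9, 7, 9], [8, 9, 8, 9], [8, 9, 8, 9], [3, 3, 3, 3], [5, 5, 5], [4, 5, 4, 5, 7], [3, 5, 3, 5, 8], [3, 6, 4, 5, 3, 9], [3, 5, 3, 5, 3, 5, 3, 5], [3, 5, 4, 6, 3, 5, 4, 6, 3, 5, 4, 6], [3, 6, 3, 6, 3, 6, 3, 6], [5, 9, 5, 9], [6, 7, 3, 9, 8], [6, 8, 4, 9, 7], [3, 6, 9, 4, 9, 8], [1, 1, 1, 1, 1, 1, 1], [2, 0, 1, 0, 2, 4], [2, 2, 0, 2, 2, 2, 0, 2, 6], [0, 1, 0, 1, 0, 1, 0, 1, 0, 1, 0, 1, 0, 1], [0, 1, 0, 2, 0, 1, 0, 2, 0, 1, 0, 2], [0, 2, 0, 2, 0, 2, 0, 2, 0, 2, 0, 2, 0, 2], [0, 6, 8, 5], [2, 8, 1, 9, 5], [2, 9, 1, 7, 5, 4], [2, 7, 1, 3, 7, 4], [1, 7, 4, 1, 7, 4], [1, 1, 9, 0, 2, 6]]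
def subs : List (List ℕ) := [[3], [4], [5], [6], [7], [8], [9]]
def ex : List (List ℕ) := []
def inv (x : ℕ) : ℕ := [0, 2, 1, 4, 3, 6, 5, 7, 8, 9].getD x 0
noncomputable def rS : ℕ → ℕ := rowOf tS (nat_lit 7) (nat_lit 127) (nat_lit 99) (nat_lit 633825300114114700748351602687)
noncomputable def rJ : ℕ → ℕ := rowOf tJ (nat_lit 7) (nat_lit 127) (nat_lit 48) (nat_lit 281474976710655)
noncomputable def C : TC.Cfg where
  S := look rS (nat_lit 9) (nat_lit 511)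
  J := look rJ (nat_lit 4) (nat_lit 15)
  Q := lookQ tQ (nat_lit 7) (nat_lit 1) (nat_lit 1)
  R := tR.get
  hl := fun x => hl.contains x
  n := (nat_lit 14)
  M := (nat_lit 14)
  top := (nat_lit 336)
  nl := (nat_lit 10)
  need := (nat_lit 10)
  nr := (nat_lit 9)
theorem k0 : TC.chkRange C 0 1 = true := by decide +kernel
theorem rows0 : ∀ c < (0 + 1) * 64, c < C.M → TC.chkRow C c = true :=
  TC.rows_step (TC.rows_zero C) k0
theorem main {G : Type*} [Group G] (g : ℕ → G) (hB : ∀ r ∈ B, ev g r = 1) (H : Subgroup G)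
    (hH : ∀ w ∈ subs, ev g w ∈ H) :
    H.relIndex (Subgroup.closure (g '' {x | x < 10})) ≠ 0 ∧
      H.relIndex (Subgroup.closure (g '' {x | x < 10})) ≤ 14 :=
  TC.index_le C B subs ex inv hl tR.hint rfl (by decide +kernel) (by decide +kernel)
    (TC.rows_done rows0 (by decide +kernel)) g hB H hH
end H0.TCHZ1
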